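import Groth.Agent.BiextCls.LeftExact

/-!
# Homomorphisms out of a sheaf with local bases
-/

noncomputable section

set_option autoImplicit false
set_option linter.unusedSectionVars false

universe u

open CategoryTheory CategoryTheory.Limits Opposite

namespace Groth.Agent.ExtLattice

open Groth.Agent.BiextCls

variable {C : Type (u + 1)} [Category.{u} C] {J : GrothendieckTopology C} {F K : Sheaf J AddCommGrpCat.{u + 1}}
  {ι : Type} [Fintype ι]

/-- A combination of restrictions of the given sections. -/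
def cmb (G : Sheaf J AddCommGrpCat.{u + 1}) {T : C} (g : ι → G.obj.obj (op T)) {W : C} (a : W ⟶ T) (n : ι → ℤ) :
    G.obj.obj (op W) := ∑ i, n i • G.obj.map a.op (g i)

theorem map_cmb (G : Sheaf J AddCommGrpCat.{u + 1}) {T : C} (g : ι → G.obj.obj (op T)) {W W' : C} (a : W ⟶ T)
    (k : W' ⟶ W) (n : ι → ℤ) : G.obj.map k.op (cmb G g a n) = cmb G g (k ≫ a) n := by
  rw [cmb, map_sum]
  exact Finset.sum_congr rfl fun i _ => by rw [map_zsmul, resA]

theorem cmb_sub (G : Sheaf J AddCommGrpCat.{u + 1}) {T : C} (g : ι → G.obj.obj (op T)) {W : C} (a : W ⟶ T)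
    (n n' : ι → ℤ) : cmb G g a (n - n') = cmb G g a n - cmb G g a n' := by
  simp only [cmb, ← Finset.sum_sub_distrib]
  exact Finset.sum_congr rfl fun i _ => sub_smul _ _ _

theorem cmb_add (G : Sheaf J AddCommGrpCat.{u + 1}) {T : C} (g : ι → G.obj.obj (op T)) {W : C} (a : W ⟶ T)
    (n n' : ι → ℤ) : cmb G g a (n + n') = cmb G g a n + cmb G g a n' := by
  simp only [cmb, ← Finset.sum_add_distrib, Pi.add_apply, add_zsmul]

theorem cmb_single [DecidableEq ι] (G : Sheaf J AddCommGrpCat.{u + 1}) {T : C} (g : ι → G.obj.obj (op T)) {W : C}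
    (a : W ⟶ T) (i : ι) : cmb G g a (Pi.single i 1) = G.obj.map a.op (g i) := by
  rw [cmb, Finset.sum_eq_single i (fun j _ hj => by rw [Pi.single_eq_of_ne hj, zero_zsmul])
    (fun h => absurd (Finset.mem_univ i) h), Pi.single_eq_same, one_zsmul]

variable {T : C} (g : ι → F.obj.obj (op T))

/-- Every section is locally a combination of the given ones. -/
def Gen : Prop :=
  ∀ (V : Over T) (x : F.obj.obj (op V.left)), ∃ R ∈ J V.left, ∀ ⦃W : C⦄ (k : W ⟶ V.left), R k →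
    ∃ n : ι → ℤ, F.obj.map k.op x = cmb F g (k ≫ V.hom) n

variable {g}

theorem ev_cmb (φ : (HomSh.homSh J F K).obj.obj (op T)) {W : C} (a : W ⟶ T) (n : ι → ℤ) :
    ev φ (Over.mk a) (cmb F g a n) = cmb K (fun i => ev φ (Over.mk (𝟙 T)) (g i)) a n := by
  rw [cmb, cmb, map_sum]
  refine Finset.sum_congr rfl fun i _ => ?_
  rw [map_zsmul]
  exact congrArg (n i • ·) (ev_res φ (Over.homMk a (by simp) : Over.mk a ⟶ Over.mk (𝟙 T)) (g i))

/-- Two homomorphisms with the same values on the sections are equal. -/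
theorem sec_ext (hgen : Gen g) {φ ψ : (HomSh.homSh J F K).obj.obj (op T)}
    (h : ∀ i, ev φ (Over.mk (𝟙 T)) (g i) = ev ψ (Over.mk (𝟙 T)) (g i)) : φ = ψ := by
  refine ev_ext fun V q => ?_
  obtain ⟨R, hR, hn⟩ := hgen V q
  refine ext_ab K hR _ _ fun W k hk => ?_
  obtain ⟨n, hn⟩ := hn k hk
  let k' : Over.mk (k ≫ V.hom) ⟶ V := Over.homMk k
  have h1 : ev φ (Over.mk (k ≫ V.hom)) (F.obj.map k.op q) = K.obj.map k.op (ev φ V q) := ev_res φ k' q
  have h2 : ev ψ (Over.mk (k ≫ V.hom)) (F.obj.map k.op q) = K.obj.map k.op (ev ψ V q) := ev_res ψ k' q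
  rw [← h1, ← h2, hn, ev_cmb, ev_cmb]
  simp only [h]

/-- Values on the given sections satisfying their relations extend to a homomorphism. -/
theorem exists_sec (hgen : Gen g) (s : ι → K.obj.obj (op T))
    (hrel : ∀ ⦃W : C⦄ (a : W ⟶ T) (n : ι → ℤ), cmb F g a n = 0 → cmb K s a n = 0) :
    ∃ ψ : (HomSh.homSh J F K).obj.obj (op T), ∀ i, ev ψ (Over.mk (𝟙 T)) (g i) = s i := by
  classical
  let Φ : ∀ (V : Over T) (_ : F.obj.obj (op V.left)) ⦃W : C⦄, (W ⟶ V.left) → K.obj.obj (op W) → Prop :=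
    fun V x W k y => ∃ n, F.obj.map k.op x = cmb F g (k ≫ V.hom) n ∧ y = cmb K s (k ≫ V.hom) n
  have huniq : ∀ V x ⦃W : C⦄ (k : W ⟶ V.left) y y', Φ V x k y → Φ V x k y' → y = y' := by
    rintro V x W k y y' ⟨n, hn, rfl⟩ ⟨n', hn', rfl⟩
    refine sub_eq_zero.1 ?_
    rw [← cmb_sub]
    exact hrel _ _ (by rw [cmb_sub, ← hn, ← hn', sub_self])
  have hex : ∀ (V : Over T) (x : F.obj.obj (op V.left)), ∃ y : K.obj.obj (op V.left),
      ∀ ⦃W : C⦄ (k : W ⟶ V.left) n, F.obj.map k.op x = cmb F g (k ≫ V.hom) n →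
        K.obj.map k.op y = cmb K s (k ≫ V.hom) n := by
    intro V x
    obtain ⟨R, hR, hn⟩ := hgen V x
    obtain ⟨y, hy⟩ := glue (isSheaf_ab K) V.left (Φ V x)
      (by
        rintro W W' k l y ⟨n, hn, rfl⟩
        refine ⟨n, ?_, ?_⟩
        · rw [← resA, hn, map_cmb, Category.assoc]
        · show K.obj.map l.op _ = _
          rw [map_cmb, Category.assoc])
      (huniq V x) R hR (fun W k hk => let ⟨n, hn⟩ := hn k hk; ⟨_, n, hn, rfl⟩)
    refine ⟨y, fun W k n hn' => ext_ab K (J.pullback_stable k hR) _ _ fun W' l hl => ?_⟩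
    rw [resA, map_cmb]
    refine huniq V x (l ≫ k) _ _ (hy (l ≫ k) hl) ⟨n, ?_, ?_⟩
    · rw [← resA, hn', map_cmb, Category.assoc]
    · rw [Category.assoc]
  choose y hy using hex
  refine ⟨sec (fun V => AddMonoidHom.mk' (y V) fun a b => ?_) (fun {V V'} k q => ?_), fun i => ?_⟩
  · obtain ⟨R, hR, hn⟩ := hgen V a
    obtain ⟨R', hR', hn'⟩ := hgen V b
    refine ext_ab K (J.intersection_covering hR hR') _ _ fun W k hk => ?_
    obtain ⟨n, hn⟩ := hn k hk.1
    obtain ⟨n', hn'⟩ := hn' k hk.2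
    rw [map_add, hy V a k n hn, hy V b k n' hn', hy V (a + b) k (n + n') (by rw [map_add, hn, hn', cmb_add]),
      cmb_add]
  · show y V' _ = K.obj.map k.left.op (y V q)
    obtain ⟨R, hR, hn⟩ := hgen V q
    refine ext_ab K (J.pullback_stable k.left hR) _ _ fun W l hl => ?_
    obtain ⟨n, hn⟩ := hn (l ≫ k.left) hl
    have e : (l ≫ k.left) ≫ V.hom = l ≫ V'.hom := by rw [Category.assoc, Over.w]
    rw [resA, hy V q _ n hn, hy V' _ l n (by rw [resA, hn, e]), e]
  · rw [ev_sec]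
    show y (Over.mk (𝟙 T)) (g i) = s i
    have h1 := hy (Over.mk (𝟙 T)) (g i) (𝟙 T) (Pi.single i 1) (by
      show _ = cmb F g (𝟙 T ≫ 𝟙 T) _
      rw [Category.id_comp, cmb_single])
    refine (resA_id K _).symm.trans (h1.trans ?_)
    show cmb K s (𝟙 T ≫ 𝟙 T) _ = _
    rw [Category.id_comp, cmb_single, resA_id]

end Groth.Agent.ExtLattice
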