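import Groth.Agent.ExtLattice.Basis
import Groth.Agent.BiextCls.Main
import Groth.Agent.Dual.TwConst
import Groth.Agent.ConstActX.AffOver
import Mathlib.Algebra.BigOperators.Pi

/-!
# The first Ext sheaf of a lattice vanishes
-/

noncomputable section

set_option autoImplicit false
set_option linter.unusedSectionVars false
set_option linter.style.haveILetI false
set_option backward.isDefEq.respectTransparency false
set_option backward.isDefEq.respectTransparency.types false
set_option synthInstance.maxHeartbeats 400000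

universe u

open CategoryTheory CategoryTheory.Limits MonoidalCategory CartesianMonoidalCategory AlgebraicGeometry Opposite

namespace Groth.Agent.ExtLattice

open Groth.Agent.BiextCls

section Abstract

variable {C : Type (u + 1)} [Category.{u} C] {J : GrothendieckTopology C} (F : Sheaf J AddCommGrpCat.{u + 1})

variable {F} in
theorem Gen.res {T T' : C} {ι : Type} [Fintype ι] {g : ι → F.obj.obj (op T)} (h : Gen g) (k : T' ⟶ T) :
    Gen fun i => F.obj.map k.op (g i) := fun V x => by
  obtain ⟨R, hR, hn⟩ := h ((Over.map k).obj V) x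
  refine ⟨R, hR, fun W l hl => ?_⟩
  obtain ⟨n, hn⟩ := hn l hl
  refine ⟨n, hn.trans (Finset.sum_congr rfl fun i _ => congrArg (n i • ·) ?_)⟩
  show F.obj.map (l ≫ V.hom ≫ k).op (g i) = F.obj.map (l ≫ V.hom).op (F.obj.map k.op (g i))
  rw [resA, Category.assoc]

theorem cmb_res {T T' W : C} {ι : Type} [Fintype ι] (G : Sheaf J AddCommGrpCat.{u + 1})
    (g : ι → G.obj.obj (op T)) (k : T' ⟶ T) (a : W ⟶ T') (n : ι → ℤ) :
    cmb G (fun i => G.obj.map k.op (g i)) a n = cmb G g (a ≫ k) n :=
  Finset.sum_congr rfl fun i _ => congrArg (n i • ·) (resA G k a (g i))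

theorem inf_covering {T : C} {ι : Type} (s : Finset ι) (R : ι → Sieve T) (h : ∀ i, R i ∈ J T) :
    s.inf R ∈ J T := by
  induction s using Finset.cons_induction with
  | empty => exact J.top_mem T
  | cons a s ha ih => rw [Finset.inf_cons]; exact J.intersection_covering (h a) ih

variable [HasSheafify J AddCommGrpCat.{u + 1}] [HasExt.{u + 1} (Sheaf J AddCommGrpCat.{u + 1})]
  [EnoughInjectives (Sheaf J AddCommGrpCat.{u + 1})]

theorem isZero_R1 (G : Sheaf J AddCommGrpCat.{u + 1} ⥤ Sheaf J AddCommGrpCat.{u + 1}) [G.Additive]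
    [PreservesFiniteLimits G] {S : ShortComplex (Sheaf J AddCommGrpCat.{u + 1})} (hS : S.ShortExact) [Injective S.X₂]
    [Epi (G.map S.g)] : IsZero ((G.rightDerived 1).obj S.X₁) := by
  obtain ⟨e⟩ := QCoh.nonempty_R1_iso G hS (G.isZero_rightDerived_obj_injective_succ 0 _)
  exact (isZero_cokernel_of_epi (G.map S.g)).of_iso e

/-- The first Ext sheaf of a sheaf with local bases vanishes. -/
theorem isZero_extSh_one (P : Sheaf J AddCommGrpCat.{u + 1})
    (hloc : ∀ T : C, ∃ R ∈ J T, ∀ ⦃T' : C⦄ (k : T' ⟶ T), R k → ∃ (r : ℕ) (g : Fin r → F.obj.obj (op T')),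
      Gen g ∧ ∀ ⦃W : C⦄ (a : W ⟶ T') (n : Fin r → ℤ), cmb F g a n = 0 → n = 0 ∨ (⊥ : Sieve W) ∈ J W) :
    IsZero ((HomSh.extSh J F 1).obj P) := by
  rw [HomSh.extSh_def]
  obtain ⟨S, hS, hI, rfl⟩ : ∃ S : ShortComplex (Sheaf J AddCommGrpCat.{u + 1}),
      S.ShortExact ∧ Injective S.X₂ ∧ S.X₁ = P :=
    ⟨ShortComplex.mk (Injective.ι P) (cokernel.π _) (cokernel.condition _),
      { exact := ShortComplex.exact_of_g_is_cokernel _ (cokernelIsCokernel _)
        mono_f := inferInstanceAs (Mono (Injective.ι P))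
        epi_g := inferInstanceAs (Epi (cokernel.π _)) },
      inferInstanceAs (Injective (Injective.under P)), rfl⟩
  haveI := hS.epi_g
  haveI : Sheaf.IsLocallySurjective S.g := (Sheaf.isLocallySurjective_iff_epi' _ _).2 inferInstance
  suffices Epi ((HomSh.homShFunctor J F).map S.g) from isZero_R1 (HomSh.homShFunctor J F) hS
  refine (Sheaf.isLocallySurjective_iff_epi' _ _).1 ⟨fun {T} φ => ?_⟩
  obtain ⟨R, hR, hg⟩ := hloc T
  refine J.transitive hR _ fun T' k hk => ?_
  obtain ⟨r, g, hgen, hrel⟩ := hg k hk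
  let φ' : (HomSh.homSh J F S.X₃).obj.obj (op T') := (HomSh.homSh J F S.X₃).obj.map k.op φ
  let q : Fin r → S.X₃.obj.obj (op T') := fun i => ev φ' (Over.mk (𝟙 T')) (g i)
  refine J.superset_covering ?_ (inf_covering Finset.univ (fun i => Presheaf.imageSieve S.g.hom (q i))
    fun i => Presheaf.imageSieve_mem J S.g.hom _)
  intro T'' l hl
  have hl' : ∀ i, ∃ s, S.g.hom.app (op T'') s = S.X₃.obj.map l.op (q i) := fun i =>
    (Finset.inf_le (f := fun i => Presheaf.imageSieve S.g.hom (q i)) (Finset.mem_univ i)) l hl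
  choose s hs using hl'
  obtain ⟨ψ, hψ⟩ := exists_sec (hgen.res l) s (fun W a n h => by
    rw [cmb_res] at h
    rcases hrel _ n h with rfl | hb
    · simp [cmb]
    · exact ext_ab S.X₂ hb _ _ fun _ f hf => hf.elim)
  refine ⟨ψ, ?_⟩
  rw [op_comp, Functor.map_comp]
  refine sec_ext (hgen.res l) fun i => ?_
  show ev ((HomSh.homShMap J (𝟙 F) S.g).hom.app (op T'') ψ) (Over.mk (𝟙 T'')) _ =
    ev ((HomSh.homSh J F S.X₃).obj.map l.op φ') (Over.mk (𝟙 T'')) (F.obj.map l.op (g i))
  rw [ev_homShMap, hψ]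
  refine (hs i).trans ?_
  refine (ev_res φ' (Over.homMk l : (Over.map l).obj (Over.mk (𝟙 T'')) ⟶ Over.mk (𝟙 T')) (g i)).symm.trans ?_
  exact (ev_map l φ' (Over.mk (𝟙 T'')) _).symm

end Abstract

section Lattice

open Groth.Agent.Dual.TwConst

variable {S : Scheme.{u}} (X : Over S) [GrpObj X] [IsCommMonObj X]

local notation "J₀" => QuotSh.J Scheme.fppfPrecoverage

local notation "𝔖" => CGrpSh.pts Scheme.fppfPrecoverage

theorem isZero_extSh_one_pts
    (hX : TwC.Locally S TwC.Topology.etale (fun S' f =>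
      ∃ (r : ℕ) (e : Red.bc f X ≅ TwC.const S' (Multiplicative (Fin r → ℤ))),
        TwC.IsConstGrp (Multiplicative (Fin r → ℤ)) (Red.bc f X) e))
    (P : Sheaf (J₀ S) AddCommGrpCat.{u + 1}) :
    IsZero ((HomSh.extSh (J₀ S) (𝔖 X) 1).obj P) := by
  choose S' f hf hs r e he using hX
  refine isZero_extSh_one (𝔖 X) P fun T => ?_
  let U : ↥S → Over S := fun s => Over.mk (pullback.fst T.hom (f s) ≫ T.hom)
  let π : ∀ s, U s ⟶ T := fun s => Over.homMk (pullback.fst T.hom (f s)) rfl
  haveI : ∀ s, Etale (π s).left := fun s => MorphismProperty.pullback_fst (P := @Etale) _ _ (hf s)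
  refine ⟨Sieve.generate (Presieve.ofArrows U π),
    ConstActX.mem_J_of_etale_family U π (fun y => ?_) _ (fun s => Sieve.le_generate _ _ _ ⟨s⟩), ?_⟩
  · obtain ⟨z, hz⟩ := hs (T.hom y)
    obtain ⟨x, hx, -⟩ := Scheme.Pullback.exists_preimage_pullback (f := T.hom) (g := f (T.hom y)) y z hz.symm
    exact ⟨T.hom y, x, hx⟩
  rintro T' k ⟨Y, l, b, ⟨s⟩, rfl⟩
  let t : T' ⟶ Over.mk (f s) := l ≫ Over.homMk (pullback.snd T.hom (f s)) pullback.condition.symm
  let χ : ∀ {W : Over S} (a : W ⟶ T'), (Fin (r s) → ℤ) →+ (𝔖 X).obj.obj (op W) := fun {W} a =>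
    AddMonoidHom.mk' (fun n => ULift.up (Additive.ofMul (a ≫ t ≫ pm (e s) (Multiplicative.ofAdd n))))
      fun n n' => by
        rw [ofAdd_add, pm_mul (e s) (he s), MonObj.comp_mul, MonObj.comp_mul]
        rfl
  let g : Fin (r s) → (𝔖 X).obj.obj (op T') := fun i => χ (𝟙 T') (Pi.single i 1)
  have hcmb : ∀ {W : Over S} (a : W ⟶ T') (n : Fin (r s) → ℤ), cmb (𝔖 X) g a n = χ a n := by
    intro W a n
    conv_rhs => rw [← Finset.univ_sum_single n, map_sum]
    refine Finset.sum_congr rfl fun i _ => ?_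
    rw [show Pi.single i (n i) = n i • (Pi.single i 1 : Fin (r s) → ℤ) by rw [← Pi.single_smul', smul_eq_mul, mul_one],
      map_zsmul]
    congr 1
  refine ⟨r s, g, fun V x => ?_, fun W a n h => ?_⟩
  · let R : Sieve V.left :=
      { arrows := fun W k => ∃ n, (𝔖 X).obj.map k.op x = cmb (𝔖 X) g (k ≫ V.hom) n
        downward_closed := by
          rintro W W' k ⟨n, hn⟩ m
          exact ⟨n, by rw [← resA, hn, map_cmb, Category.assoc]⟩ }
    choose m O hO hm using exists_index (e s) t x.down.toMul V.hom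
    haveI : ∀ z, Etale (RepLocal.opIncl V.left (O z)).left := fun z => inferInstanceAs (Etale (O z).ι)
    refine ⟨R, ConstActX.mem_J_of_etale_family (fun z => RepLocal.opOver V.left (O z))
      (fun z => RepLocal.opIncl V.left (O z)) (fun z => ⟨z, ⟨z, hO z⟩, rfl⟩) _ fun z => ?_, fun W k hk => hk⟩
    exact ⟨(m z).toAdd, ((congrArg (fun b => (ULift.up (Additive.ofMul b) : ULift.{u + 1} _)) (hm z)).trans
      (congrArg (fun b => (ULift.up (Additive.ofMul b) : ULift.{u + 1} _)) (Category.assoc _ _ _).symm)).trans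
      (hcmb _ (m z).toAdd).symm⟩
  · rcases isEmpty_or_nonempty W.left with hW | ⟨⟨w⟩⟩
    · exact Or.inr (ConstActX.mem_J_of_etale_family (ι := PEmpty.{u + 1}) (fun i => i.elim) (fun i => i.elim)
        (fun y => hW.elim y) _ fun i => i.elim)
    · refine Or.inl ?_
      rw [hcmb] at h
      have h0 := h.trans (map_zero (χ a)).symm
      have h1 : (a ≫ t) ≫ pm (e s) (Multiplicative.ofAdd n) = (a ≫ t) ≫ pm (e s) 1 := by
        rw [Category.assoc, Category.assoc]
        exact congrArg (fun b => b.down.toMul) h0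
      have h2 : ((a ≫ t).left ≫ (TwC.pt (S' s) _ (Multiplicative.ofAdd n) ≫ (e s).inv).left) =
          ((a ≫ t).left ≫ (TwC.pt (S' s) _ 1 ≫ (e s).inv).left) := by
        refine pullback.hom_ext ?_ ?_
        · simpa [pm, DSPtsLib.theta_left, Category.assoc] using congrArg CommaMorphism.left h1
        · rw [Category.assoc, Category.assoc]
          exact congrArg _ ((Over.w _).trans (Over.w _).symm)
      have h2' : (a ≫ t).left ≫ Sigma.ι (fun _ : Multiplicative (Fin (r s) → ℤ) => S' s) (Multiplicative.ofAdd n) =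
          (a ≫ t).left ≫ Sigma.ι (fun _ : Multiplicative (Fin (r s) → ℤ) => S' s) 1 :=
        (cancel_mono ((e s).inv.left)).1 (by simpa [TwC.pt, Category.assoc] using h2)
      have h3 := congrArg (fun b : W.left ⟶ _ => b w) h2'
      have h4 := congrArg Sigma.fst ((sigmaι_eq_iff _ _ _ _ _).mp h3)
      exact Multiplicative.ofAdd.injective h4

end Lattice

end Groth.Agent.ExtLattice
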